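import Cfsg.Agent.H0.PG2
set_option maxRecDepth 100000
set_option Elab.async false
set_option linter.unusedSectionVars false
namespace H0.MS43
open H0 BN 
noncomputable def n0 : Net := (Net.cons (nat_lit 32) (nat_lit 0xd012060) (Net.cons (nat_lit 16) (nat_lit 0xd0200005318) (Net.cons (nat_lit 8) (nat_lit 0xb100f20090) (Net.cons (nat_lit 4) (nat_lit 0xc0800080c0e) (Net.cons (nat_lit 2) (nat_lit 0x100000200221) (Net.cons (nat_lit 1) (nat_lit 0x1004011140010) (Net.cons (nat_lit 2) (nat_lit 0x200020) (Net.cons (nat_lit 4) (nat_lit 0x4080008080c) (Net.cons (nat_lit 8) (nat_lit 0x9000b20090) (Net.cons (nat_lit 16) (nat_lit 0xd0200004310) (Net.cons (nat_lit 32) (nat_lit 0xd012060) Net.nil)))))))))))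
noncomputable def n1 : Net := (Net.cons (nat_lit 32) (nat_lit 0x51c425a2) (Net.cons (nat_lit 16) (nat_lit 0x64680000ac71) (Net.cons (nat_lit 8) (nat_lit 0x100041007800ee) (Net.cons (nat_lit 4) (nat_lit 0x206000706000c04) (Net.cons (nat_lit 2) (nat_lit 0x312003102000221) (Net.cons (nat_lit 1) (nat_lit 0x440005014015010) (Net.cons (nat_lit 2) (nat_lit 0x200000000000000) (Net.cons (nat_lit 4) (nat_lit 0x20200020c000402) (Net.cons (nat_lit 8) (nat_lit 0x3000000070004e) (Net.cons (nat_lit 16) (nat_lit 0x64a800002458) (Net.cons (nat_lit 32) (nat_lit 0x51c42530) Net.nil)))))))))))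
noncomputable def n2 : Net := (Net.cons (nat_lit 32) (nat_lit 0x5bccad6a) (Net.cons (nat_lit 16) (nat_lit 0xf6080000626f) (Net.cons (nat_lit 8) (nat_lit 0xec00f3003c0090) (Net.cons (nat_lit 4) (nat_lit 0xc0403040a020000) (Net.cons (nat_lit 2) (nat_lit 0x300301200210000) (Net.cons (nat_lit 1) (nat_lit 0x140110014401011) (Net.cons (nat_lit 2) (nat_lit 0x220000020202000) (Net.cons (nat_lit 4) (nat_lit 0x80c000404060000) (Net.cons (nat_lit 8) (nat_lit 0xe000a000780080) (Net.cons (nat_lit 16) (nat_lit 0xff4c0000626e) (Net.cons (nat_lit 32) (nat_lit 0x5bccad04) Net.nil)))))))))))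
noncomputable def n3 : Net := (Net.cons (nat_lit 32) (nat_lit 0xf0000000) (Net.cons (nat_lit 16) (nat_lit 0xf0000000ab18) (Net.cons (nat_lit 8) (nat_lit 0xf200e40054) (Net.cons (nat_lit 4) (nat_lit 0x902010600) (Net.cons (nat_lit 2) (nat_lit 0x200100010022) (Net.cons (nat_lit 1) (nat_lit 0x501404141440) (Net.cons (nat_lit 2) (nat_lit 0x2020020) (Net.cons (nat_lit 4) (nat_lit 0x20c04080204) (Net.cons (nat_lit 8) (nat_lit 0x4200e80014) (Net.cons (nat_lit 16) (nat_lit 0xf0000000a464) (Net.cons (nat_lit 32) (nat_lit 0xf0000000) Net.nil)))))))))))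
noncomputable def n4 : Net := (Net.cons (nat_lit 32) (nat_lit 0xf0000000) (Net.cons (nat_lit 16) (nat_lit 0xf0000000a564) (Net.cons (nat_lit 8) (nat_lit 0x1200e80054) (Net.cons (nat_lit 4) (nat_lit 0x2060a0a0e04) (Net.cons (nat_lit 2) (nat_lit 0x2120010022) (Net.cons (nat_lit 1) (nat_lit 0x501140115040) (Net.cons (nat_lit 2) (nat_lit 0x2000020020) (Net.cons (nat_lit 4) (nat_lit 0x20c000a00) (Net.cons (nat_lit 8) (nat_lit 0x5200e40050) (Net.cons (nat_lit 16) (nat_lit 0xf0000000aa18) (Net.cons (nat_lit 32) (nat_lit 0xf0000000) Net.nil)))))))))))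
noncomputable def n5 : Net := (Net.cons (nat_lit 32) (nat_lit 0xf0000000) (Net.cons (nat_lit 16) (nat_lit 0xf00000007020) (Net.cons (nat_lit 8) (nat_lit 0xc4006c007a) (Net.cons (nat_lit 4) (nat_lit 0x401080a0708) (Net.cons (nat_lit 2) (nat_lit 0x201221132102) (Net.cons (nat_lit 1) (nat_lit 0x401151441404) (Net.cons (nat_lit 2) (nat_lit 0x202000000000) (Net.cons (nat_lit 4) (nat_lit 0x40808040800) (Net.cons (nat_lit 8) (nat_lit 0x54003a00f8) (Net.cons (nat_lit 16) (nat_lit 0xf00000007712) (Net.cons (nat_lit 32) (nat_lit 0xf0000000) Net.nil)))))))))))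
noncomputable def n6 : Net := (Net.cons (nat_lit 32) (nat_lit 0xf0000000) (Net.cons (nat_lit 16) (nat_lit 0xf00000007712) (Net.cons (nat_lit 8) (nat_lit 0x54007a00f8) (Net.cons (nat_lit 4) (nat_lit 0x40708020700) (Net.cons (nat_lit 2) (nat_lit 0x200113333000) (Net.cons (nat_lit 1) (nat_lit 0x401454111104) (Net.cons (nat_lit 2) (nat_lit 0x202202022202) (Net.cons (nat_lit 4) (nat_lit 0x40e08000808) (Net.cons (nat_lit 8) (nat_lit 0xc4004c007a) (Net.cons (nat_lit 16) (nat_lit 0xf00000007020) (Net.cons (nat_lit 32) (nat_lit 0xf0000000) Net.nil)))))))))))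
noncomputable def n7 : Net := (Net.cons (nat_lit 32) (nat_lit 0x70000000) (Net.cons (nat_lit 16) (nat_lit 0x70000000ac00) (Net.cons (nat_lit 8) (nat_lit 0xf000e7006c) (Net.cons (nat_lit 4) (nat_lit 0xa020e0200) (Net.cons (nat_lit 2) (nat_lit 0x3020202300) (Net.cons (nat_lit 1) (nat_lit 0x400041414100) (Net.cons (nat_lit 2) (nat_lit 0x200022022200) (Net.cons (nat_lit 4) (nat_lit 0xc06040000) (Net.cons (nat_lit 8) (nat_lit 0xf000c0006c) (Net.cons (nat_lit 16) (nat_lit 0x70000000ac00) (Net.cons (nat_lit 32) (nat_lit 0x70000000) Net.nil)))))))))))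
noncomputable def n8 : Net := (Net.cons (nat_lit 32) (nat_lit 0x70000000) (Net.cons (nat_lit 16) (nat_lit 0x70000000ac00) (Net.cons (nat_lit 8) (nat_lit 0xf0000f006c) (Net.cons (nat_lit 4) (nat_lit 0x606060000) (Net.cons (nat_lit 2) (nat_lit 0x201202222100) (Net.cons (nat_lit 1) (nat_lit 0x400041414400) (Net.cons (nat_lit 2) (nat_lit 0x20202000) (Net.cons (nat_lit 4) (nat_lit 0x6020200) (Net.cons (nat_lit 8) (nat_lit 0xf00000006c) (Net.cons (nat_lit 16) (nat_lit 0x70000000ac00) (Net.cons (nat_lit 32) (nat_lit 0x70000000) Net.nil)))))))))))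
noncomputable def n9 : Net := (Net.cons (nat_lit 16) (nat_lit 0x8000) (Net.cons (nat_lit 8) (nat_lit 0xe00080) (Net.cons (nat_lit 4) (nat_lit 0xc0e0c0c) (Net.cons (nat_lit 2) (nat_lit 0x3301131320) (Net.cons (nat_lit 1) (nat_lit 0x4404414114) (Net.cons (nat_lit 2) (nat_lit 0x2200000200) (Net.cons (nat_lit 4) (nat_lit 0xc0e0c0c) (Net.cons (nat_lit 8) (nat_lit 0xe00040) (Net.cons (nat_lit 16) (nat_lit 0x4000) Net.nil)))))))))
noncomputable def n10 : Net := (Net.cons (nat_lit 16) (nat_lit 0x4000) (Net.cons (nat_lit 8) (nat_lit 0xe00040) (Net.cons (nat_lit 4) (nat_lit 0xc0e0c0c) (Net.cons (nat_lit 2) (nat_lit 0x1103333100) (Net.cons (nat_lit 1) (nat_lit 0x1101141414) (Net.cons (nat_lit 2) (nat_lit 0x2202020) (Net.cons (nat_lit 4) (nat_lit 0xc0e0c0c) (Net.cons (nat_lit 8) (nat_lit 0xe00080) (Net.cons (nat_lit 16) (nat_lit 0x8000) Net.nil)))))))))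
noncomputable def n11 : Net := (Net.cons (nat_lit 16) (nat_lit 0x4000) (Net.cons (nat_lit 8) (nat_lit 0xe00040) (Net.cons (nat_lit 4) (nat_lit 0xc0e0c0c) (Net.cons (nat_lit 2) (nat_lit 0x1103333100) (Net.cons (nat_lit 1) (nat_lit 0x1101141414) (Net.cons (nat_lit 2) (nat_lit 0x2202020) (Net.cons (nat_lit 4) (nat_lit 0xc0e0c0c) (Net.cons (nat_lit 8) (nat_lit 0xe00080) (Net.cons (nat_lit 16) (nat_lit 0x8000) Net.nil)))))))))
noncomputable def n12 : Net := (Net.cons (nat_lit 16) (nat_lit 0x8000) (Net.cons (nat_lit 8) (nat_lit 0xe00080) (Net.cons (nat_lit 4) (nat_lit 0xc0e0c0c) (Net.cons (nat_lit 2) (nat_lit 0x3301131320) (Net.cons (nat_lit 1) (nat_lit 0x4404414114) (Net.cons (nat_lit 2) (nat_lit 0x2200000200) (Net.cons (nat_lit 4) (nat_lit 0xc0e0c0c) (Net.cons (nat_lit 8) (nat_lit 0xe00040) (Net.cons (nat_lit 16) (nat_lit 0x4000) Net.nil)))))))))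
noncomputable def n13 : Net := (Net.cons (nat_lit 32) (nat_lit 0x5bccad6a) (Net.cons (nat_lit 16) (nat_lit 0xf6080000626f) (Net.cons (nat_lit 8) (nat_lit 0xec00f3003c0090) (Net.cons (nat_lit 4) (nat_lit 0xc0403040a020000) (Net.cons (nat_lit 2) (nat_lit 0x300301200210000) (Net.cons (nat_lit 1) (nat_lit 0x140110014401011) (Net.cons (nat_lit 2) (nat_lit 0x220000020202000) (Net.cons (nat_lit 4) (nat_lit 0x80c000404060000) (Net.cons (nat_lit 8) (nat_lit 0xe000a000780080) (Net.cons (nat_lit 16) (nat_lit 0xff4c0000626e) (Net.cons (nat_lit 32) (nat_lit 0x5bccad04) Net.nil)))))))))))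
def B : List (List ℕ) := [[0, 0], [1, 2], [2, 1], [3, 4], [4, 3], [5, 6], [6, 5], [7, 8], [8, 7], [9, 10], [10, 9], [11, 12], [12, 11], [11, 11, 11], [7, 7, 7], [9, 9, 9], [10, 12], [7, 9, 7, 9, 7, 9, 7, 9, 7, 9, 7, 9], [7, 9, 8, 10, 7, 9, 8, 10, 7, 9, 8, 10, 7, 9, 8, 10], [7, 10, 7, 10, 7, 10, 7, 10], [7, 9, 8, 10, 8, 12], [3, 3, 3, 3, 3, 3], [5, 5, 5, 5, 5, 5], [3, 6, 3, 6, 8], [4, 5, 4, 4, 5, 10], [3, 5, 3, 5, 3, 5, 3, 5, 3, 5, 3, 5, 3, 5, 3, 5, 3, 5, 3, 5, 3, 5, 3, 5], [3, 5, 4, 6, 3, 5, 4, 6, 3, 5, 4, 6, 3, 5, 4, 6], [3, 6, 3, 6, 3, 6, 3, 6, 3, 6, 3, 6], [3, 6, 9, 8, 9], [3, 8, 4, 4, 8], [4, 6, 8, 5, 8], [6, 11, 3, 8, 10, 7], [1, 1, 1, 1, 1], [2, 0, 2, 2, 0, 2, 4], [2, 2, 0, 1, 1, 0, 2, 2, 6], [0, 1, 0, 1, 0, 1, 0, 1, 0, 1, 0, 1, 0, 1, 0, 1, 0, 1], [0, 1, 0, 2, 0, 1, 0, 2, 0, 1, 0, 2], [0, 2, 0, 2, 0, 2, 0, 2, 0, 2, 0, 2, 0, 2, 0, 2, 0, 2], [0, 6, 0, 5], [1, 11, 2, 3, 9, 4], [0, 4, 8, 0, 7, 3],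 [2, 8, 1, 9, 6, 6, 3], [0, 2, 2, 7, 0, 9, 3], [0, 11, 3, 0, 8, 5, 5, 3], [1, 6, 1, 3, 2, 3], [1, 5, 1, 8, 2, 3, 7], [1, 3, 11, 1, 8, 6, 6, 3], [2, 11, 2, 2, 6, 9, 5, 5], [1, 8, 4, 2, 5, 8, 5, 4], [2, 4, 9, 3, 1, 10], [1, 4, 0, 4, 1, 7, 5], [0, 2, 9, 1, 0, 9, 5, 4], [2, 4, 0, 3, 1, 7, 4, 10, 6], [0, 2, 8, 1, 0, 9, 6, 6, 3], [0, 3, 0, 2, 0, 5, 3, 5, 4]]
def inv (x : ℕ) : ℕ := [0, 2, 1, 4, 3, 6, 5, 8, 7, 10, 9, 12, 11].getD x 0
noncomputable def nl : List Net := [n0, n1, n2, n3, n4, n5, n6, n7, n8, n9, n10, n11, n12, n13]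
theorem nl_ok : allL (Net.ok (nat_lit 64)) nl = true := by decide +kernel
noncomputable def R : Rep := mkRep (nat_lit 6) (nat_lit 64) nl (by decide +kernel) nl_ok
def defs : List (List ℕ) := [[2]]
theorem R_ge : ∀ x, 13 + defs.length ≤ x → R.p x = 1 := fun _ hx => mkRep_ge hx
def ngSt : List (List (ℕ × List ℕ) × List ℕ × ℕ × ℕ) := [([(0, [])], [0], 9, 2), ([(1, [])], [1], 9, 5), ([(2, [])], [2], 1, 5), ([(3, [])], [5], 5, 6), ([(4, [])], [6], 1, 6), ([(0, [8])], [3], 5, 6), ([(6, [])], [4], 1, 6), ([(7, [])], [7], 4, 3), ([(8, [])], [8], 1, 3), ([(9, [])], [9], 4, 3), ([(10, [])], [10], 1, 3), ([(10, [])], [11], 1, 3), ([(11, [])], [12], 1, 3)]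
def ngR : List (List ℕ) := ngRels inv ngSt [[13]]
def xR : List (List ℕ) := [wpow [13] 5]
theorem c0 : relsW R 0 R.lg ((B.drop 0).take 55) = true := by decide +kernel
theorem c1 : defsChk R defs 13 = true := by decide +kernel
theorem c2 : Model.fixW R [] [[0], [1]] = true := by decide +kernel
theorem c3 : Model.growW R [[0], [1]] [0, 1, 0, 1, 1, 0, 1, 1, 0, 1, 0] (Nat.pow 2 0) (ival 0 40) = true := by decide +kernel
theorem c4 : Model.fixW R [0] [[3], [5]] = true := by decide +kernel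
theorem c5 : Model.growW R [[3], [5]] [0, 0, 1, 0, 1, 0, 1, 0, 1, 0] (Nat.pow 2 1) (ival 1 27) = true := by decide +kernel
theorem c6 : Model.fixW R [1, 0] [[7], [9]] = true := by decide +kernel
theorem c7 : Model.growW R [[7], [9]] [0, 0, 1, 1, 0] (Nat.pow 2 2) (ival 2 8) = true := by decide +kernel
theorem c8 : Model.fixW R [2, 1, 0] [[11]] = true := by decide +kernel
theorem c9 : Model.growW R [[11]] [0, 0] (Nat.pow 2 10) (ival 10 3) = true := by decide +kernel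
theorem c10 : Model.growW R [[0], [1]] [0, 1, 0, 1, 1, 0, 1, 1, 0, 1, 0] (Nat.pow 2 0) (ival 0 40) = true := by decide +kernel
theorem c11 : Model.invW R [[0], [1], [2], [3], [4], [5], [6], [7], [8], [9], [10], [11], [12]] 0 40 = true := by decide +kernel
theorem c12 : Model.fixW R [0] [[3], [5]] = true := by decide +kernel
theorem c13 : Model.growW R [[3], [5]] [0, 1, 0, 0, 1, 0, 1, 0, 0] (Nat.pow 2 14) (ival 1 27) = true := by decide +kernel
theorem c14 : mapsW R [1] (Nat.pow 2 0) (Nat.pow 2 14) = true := by decide +kernel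
theorem c15 : Model.growW R [[1], [3], [5]] [0, 0, 1, 0, 2, 0, 2, 1, 1, 0] (Nat.pow 2 0) (ival 0 40) = true := by decide +kernel
theorem c16 : Model.growW R [[3], [5]] [0, 0, 1, 1, 0, 1, 0] (Nat.pow 2 38) (ival 28 12) = true := by decide +kernel
theorem c17 : mapsW R [0] (Nat.pow 2 0) (Nat.pow 2 38) = true := by decide +kernel
theorem c18 : Model.growW R [[0], [3], [5]] [0, 1, 0, 1, 2, 0, 1, 2, 1, 0, 2] (Nat.pow 2 0) (ival 0 40) = true := by decide +kernel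
theorem c19 : relsW R 0 R.lg ((ngR.drop 0).take 26) = true := by decide +kernel
theorem c20 : relsW R 0 R.lg ((xR.drop 0).take 1) = true := by decide +kernel
end H0.MS43
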